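/-
The roots of the datum of type G₂, by index, and the twelve elements of its Weyl group.

Indices: 7 short fundamental, 6 long fundamental, 11 the highest root; -r is 11 - r.
-/
import Cfsg.Agent.Lib.ChevInvolOdd.Monomial
import Cfsg.Agent.Lib.ChevBN.RootTables
import Cfsg.Agent.Lib.Chev.All

set_option autoImplicit false

namespace Cfsg.Agent.G2Invol

open Cfsg.Lie Cfsg.Lie.ChevalleyDatum Cfsg.Agent.Chev Cfsg.Agent.ChevBN Cfsg.Agent.ChevSt Cfsg.Agent.ChevInvolOdd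

theorem goodG : Good chevG2 := good_of_mem (D := chevG2) (by simp)

theorem nroots_G2 : chevG2.nroots = 12 := by decide +kernel

theorem rank_G2 : chevG2.rank = 2 := by decide +kernel

/-- The identity on roots. -/
def idP : List ℕ := [0, 1, 2, 3, 4, 5, 6, 7, 8, 9, 10, 11]

/-- The reflection at the root 7. -/
def s7 : List ℕ := [0, 5, 3, 2, 7, 1, 10, 4, 9, 8, 6, 11]

/-- The reflection at the root 11. -/
def s11 : List ℕ := [11, 6, 8, 9, 4, 10, 1, 7, 2, 3, 5, 0]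

/-- The negation. -/
def negP : List ℕ := [11, 10, 9, 8, 7, 6, 5, 4, 3, 2, 1, 0]

/-- The Weyl group as permutations of the roots. -/
def w12 : List (List ℕ) :=
  [idP, s7, [1, 0, 2, 4, 3, 6, 5, 8, 7, 9, 11, 10], [1, 6, 4, 2, 8, 0, 11, 3, 9, 7, 5, 10],
    [5, 0, 3, 7, 2, 10, 1, 9, 4, 8, 11, 6], [5, 10, 7, 3, 9, 0, 11, 2, 8, 4, 1, 6],
    [6, 1, 4, 8, 2, 11, 0, 9, 3, 7, 10, 5], [6, 11, 8, 4, 9, 1, 10, 2, 7, 3, 0, 5],
    [10, 5, 7, 9, 3, 11, 0, 8, 2, 4, 6, 1], [10, 11, 9, 7, 8, 5, 6, 3, 4, 2, 0, 1], s11, negP]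

/-- The permutation of a list. -/
def pf (p : List ℕ) (q : ℕ) : ℕ := p.getD q 0

theorem w12_step : ∀ p ∈ w12, ∀ i < 2, ∃ p' ∈ w12, ∀ q < 12, wN chevG2 i (pf p q) = pf p' q := by decide +kernel

theorem w12_cases : ∀ p ∈ w12, (∀ q < 12, pf p (pf p q) = q) → p = idP ∨ p = negP ∨
    ∃ r < 12, ∀ q < 12, pf p q = Chev.refl chevG2 r q := by decide +kernel

theorem refl_six_neg : ∃ r < 12, ∀ q < 12, Chev.refl chevG2 6 (pf negP q) = Chev.refl chevG2 r q := by
  decide +kernel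

theorem refl_refl_G2 : ∀ r < 12, ∀ q < 12, Chev.refl chevG2 r (Chev.refl chevG2 r q) = q := by decide +kernel

theorem exists_pairing_one : ∀ r < 12, ∃ s < 12, chevG2.pairing r s = 1 := by decide +kernel

theorem pairing_7_5 : chevG2.pairing 7 5 = 3 := by decide +kernel

theorem pairing_6_7 : chevG2.pairing 6 7 = -1 := by decide +kernel

theorem pairing_parity : ∀ q < 12, (chevG2.pairing 7 q - chevG2.pairing 11 q) % 2 = 0 ∧
    (chevG2.pairing 8 q - chevG2.pairing 10 q) % 2 = 0 := by decide +kernel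

theorem w12_fixing : ∀ p ∈ w12, (∀ q < 12, (chevG2.pairing 7 (pf p q) - chevG2.pairing 7 q) % 2 = 0) →
    p = idP ∨ p = s7 ∨ p = s11 ∨ p = negP := by decide +kernel

theorem refl_eq : ∀ q < 12, pf idP q = q ∧ pf s7 q = Chev.refl chevG2 7 q ∧ pf s11 q = Chev.refl chevG2 11 q ∧
    pf negP q = Chev.refl chevG2 7 (Chev.refl chevG2 11 q) ∧ pf negP q = chevG2.neg q := by decide +kernel

theorem wN_vals : wN chevG2 0 6 = 10 ∧ wN chevG2 1 7 = 8 := by decide +kernel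

theorem simples : chevG2.simple 0 = 7 ∧ chevG2.simple 1 = 6 ∧ chevG2.neg 7 = 4 ∧ chevG2.neg 11 = 0 ∧
    chevG2.neg 6 = 5 := by decide +kernel

theorem pos_list : ∀ q < 12, chevG2.IsPosRoot q ↔ 6 ≤ q := by
  intro q hq
  have h : ∀ q < 12, (0 < ht chevG2 adjG2 q ↔ 6 ≤ q) := by decide +kernel
  rw [← h q hq]
  refine ⟨fun hp => rootsG2.ht_pos q (by rw [nroots_G2]; exact hq) hp, fun h0 => ?_⟩
  by_contra hn
  have h1 := rootsG2.ht_pos _ (goodG.neg_lt q (by rw [nroots_G2]; exact hq)) ((pos_or_neg goodG (by rw [nroots_G2]; exact hq)).2 hn)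
  rw [(isLin_ht goodG adjG2).neg q (by rw [nroots_G2]; exact hq)] at h1
  omega

theorem orth_comm : ∀ r ∈ [4, 7], ∀ s ∈ [0, 11], s ≠ r ∧ s ≠ chevG2.neg r ∧ chevG2.commTerms r s = [] := by
  decide +kernel

theorem pairing_centralize : ∀ q ∈ [0, 4, 7, 11], chevG2.pairing 7 q % 2 = 0 := by decide +kernel

theorem pairing_pos_even : ∀ q < 12, 6 ≤ q → chevG2.pairing 7 q % 2 = 0 → q = 7 ∨ q = 11 := by decide +kernel

variable {F : Type*} [Field F]

theorem exists_w12 {n : GL chevG2.Idx F} (hn : n ∈ (chevRGD goodG rootsG2 F).N) :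
    ∃ p ∈ w12, Perms goodG n (pf p) := by
  obtain ⟨l, hl⟩ := exists_perms goodG rootsG2 hn
  suffices h : ∀ l : List (Fin chevG2.rank), ∃ p ∈ w12, ∀ q < 12, l.foldr (fun i x => wN chevG2 i.val x) q = pf p q by
    obtain ⟨p, hp, e⟩ := h l
    exact ⟨p, hp, hl.congr goodG fun q hq => e q (by rwa [nroots_G2] at hq)⟩
  intro l
  induction l with
  | nil => exact ⟨idP, by simp [w12], fun q hq => ((refl_eq q hq).1).symm⟩
  | cons i l ih =>
    obtain ⟨p, hp, e⟩ := ih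
    obtain ⟨p', hp', e'⟩ := w12_step p hp i.val (i.isLt.trans_le rank_G2.le)
    exact ⟨p', hp', fun q hq => by rw [List.foldr_cons, e q hq, e' q hq]⟩

end Cfsg.Agent.G2Invol
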