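/-
The involutions of the Chevalley group of type G₂ in odd characteristic form one class.

* `zG`: the involution h₇(-1) = h₁₁(-1).
* `conj_z`: every involution is conjugate to it.
-/
import Cfsg.Agent.Lib.G2Invol.Tables
import Cfsg.Agent.Lib.ChevOrder.CardH

set_option autoImplicit false

namespace Cfsg.Agent.G2Invol

open Cfsg.Lie Cfsg.Lie.ChevalleyDatum Cfsg.Agent.Chev Cfsg.Agent.ChevBN Cfsg.Agent.ChevSt Cfsg.Agent.ChevInvolOdd
  Cfsg.Agent.Chev.RankOne

variable {F : Type*} [Field F]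

theorem lt12 {q : ℕ} (hq : q < 12) : q < chevG2.nroots := by rw [nroots_G2]; exact hq

/-- The involution. -/
def zG (F : Type*) [Field F] : GL chevG2.Idx F := hg goodG F 7 (-1)

/-- A diagonal element is an `h`-product of the two fundamental roots. -/
theorem exists_hg_mul {h : GL chevG2.Idx F} (hh : h ∈ chevG2.diagonalSubgroup F) :
    ∃ a b : Fˣ, h = hg goodG F 7 (a : F) * hg goodG F 6 (b : F) := by
  rw [← ChevOrder.torusHom_range goodG] at hh
  obtain ⟨c, rfl⟩ := hh
  refine ⟨c ⟨0, by rw [rank_G2]; norm_num⟩, c ⟨1, by rw [rank_G2]; norm_num⟩, Units.ext ?_⟩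
  rw [Units.val_mul, coe_hg, coe_hg, hMat_eq_diag goodG (lt12 (by norm_num)) (Units.ne_zero _),
    hMat_eq_diag goodG (lt12 (by norm_num)) (Units.ne_zero _), ChevOrder.coe_torusHom, ChevOrder.dg_mul]
  congr 1
  funext s
  rw [ChevOrder.chi]
  rw [← simples.1, ← simples.2.1, pairing_simple goodG (by rw [rank_G2]; norm_num),
    pairing_simple goodG (by rw [rank_G2]; norm_num), Units.mk0_val, Units.mk0_val]
  exact Fin.prod_univ_two (fun i => c i ^ chevG2.cartan i.val s)

theorem hg_congr_parity {r s : ℕ} (hr : r < 12) (hs : s < 12)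
    (h : ∀ q < 12, (chevG2.pairing r q - chevG2.pairing s q) % 2 = 0) :
    hg goodG F r (-1) = hg goodG F s (-1) := by
  apply Units.ext
  have h1 : (-1 : F) ≠ 0 := neg_ne_zero.2 one_ne_zero
  rw [coe_hg, coe_hg, hMat_eq_diag goodG (lt12 hr) h1, hMat_eq_diag goodG (lt12 hs) h1, dg, dg]
  congr 1
  funext x
  rcases x with i | q
  · rfl
  · obtain ⟨k, hk⟩ := Int.dvd_of_emod_eq_zero (h q.val (q.isLt.trans_le nroots_G2.le))
    show (((Units.mk0 (-1 : F) h1) ^ chevG2.pairing r q.val : Fˣ) : F) =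
      (((Units.mk0 (-1 : F) h1) ^ chevG2.pairing s q.val : Fˣ) : F)
    rw [Units.val_zpow_eq_zpow_val, Units.val_zpow_eq_zpow_val, Units.val_mk0,
      show chevG2.pairing r q.val = chevG2.pairing s q.val + 2 * k by omega, zpow_add₀ h1, zpow_mul]
    norm_num

theorem zG_eq : zG F = hg goodG F 11 (-1) :=
  hg_congr_parity (by norm_num) (by norm_num) fun q hq => (pairing_parity q hq).1

theorem zG_sq : zG F * zG F = 1 := by
  rw [zG, hg_mul goodG (lt12 (by norm_num)) (neg_ne_zero.2 one_ne_zero) (neg_ne_zero.2 one_ne_zero), neg_mul_neg,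
    one_mul, hg_one]

/-- Conjugacy under the Chevalley group. -/
def Cj (x y : GL chevG2.Idx F) : Prop := ∃ g ∈ chevG2.group F, g * x * g⁻¹ = y

theorem Cj.refl' (x : GL chevG2.Idx F) : Cj x x := ⟨1, one_mem _, by group⟩

theorem Cj.trans {x y z : GL chevG2.Idx F} : Cj x y → Cj y z → Cj x z := by
  rintro ⟨g, hg, rfl⟩ ⟨k, hk, rfl⟩
  exact ⟨k * g, mul_mem hk hg, by group⟩

theorem Cj.symm {x y : GL chevG2.Idx F} : Cj x y → Cj y x := by
  rintro ⟨g, hg, rfl⟩
  exact ⟨g⁻¹, inv_mem hg, by group⟩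

theorem Cj.sq {x y : GL chevG2.Idx F} : Cj x y → x * x = 1 → y * y = 1 := by
  rintro ⟨g, -, rfl⟩ h
  calc g * x * g⁻¹ * (g * x * g⁻¹) = g * (x * x) * g⁻¹ := by group
    _ = 1 := by rw [h]; group

theorem Cj.ne_one {x y : GL chevG2.Idx F} : Cj x y → x ≠ 1 → y ≠ 1 := by
  rintro ⟨g, -, rfl⟩ h e
  exact h (conj_eq_one_iff.1 e)

theorem cj_ng {i r : ℕ} (hi : i < 2) (hr : r < 12) :
    Cj (hg goodG F r (-1)) (hg goodG F (wN chevG2 i r) (-1)) :=
  ⟨ng goodG F (chevG2.simple i) 1,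
    mul_mem (mul_mem (xg_mem_group goodG _ _) (xg_mem_group goodG _ _)) (xg_mem_group goodG _ _),
    ng_conj_hg goodG rootsG2 (hi.trans_le rank_G2.ge) (lt12 hr) (neg_ne_zero.2 one_ne_zero)⟩

theorem cj_diag {h : GL chevG2.Idx F} (hh : h ∈ chevG2.diagonalSubgroup F) (h2 : h * h = 1) (h1 : h ≠ 1) :
    Cj h (zG F) := by
  have h18 : Cj (hg goodG F 7 (-1)) (hg goodG F 8 (-1)) := by
    have := cj_ng (F := F) (i := 1) (r := 7) (by norm_num) (by norm_num)
    rwa [wN_vals.2] at this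
  have h610 : Cj (hg goodG F 6 (-1)) (hg goodG F 10 (-1)) := by
    have := cj_ng (F := F) (i := 0) (r := 6) (by norm_num) (by norm_num)
    rwa [wN_vals.1] at this
  have h810 : hg goodG F 8 (-1) = hg goodG F 10 (-1) :=
    hg_congr_parity (by norm_num) (by norm_num) fun q hq => (pairing_parity q hq).2
  obtain ⟨a, b, rfl⟩ := exists_hg_mul hh
  have e : hg goodG F 7 ((a : F) * a) * hg goodG F 6 ((b : F) * b) = 1 := by
    rw [← hg_mul goodG (lt12 (by norm_num)) a.ne_zero a.ne_zero, ← hg_mul goodG (lt12 (by norm_num)) b.ne_zero b.ne_zero,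
      ← h2]
    rw [show ∀ p q r s : GL chevG2.Idx F, p * q * (r * s) = p * (q * r) * s from fun p q r s => by group,
      show ∀ p q r s : GL chevG2.Idx F, p * r * (q * s) = p * (r * q) * s from fun p q r s => by group,
      diag_commute goodG (g := hg goodG F 6 (b : F)) (h := hg goodG F 7 (a : F))
        (Subgroup.subset_closure ⟨6, b, lt12 (by norm_num), b.ne_zero, coe_hg goodG _ _⟩)
        (Subgroup.subset_closure ⟨7, a, lt12 (by norm_num), a.ne_zero, coe_hg goodG _ _⟩)]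
  -- read off the diagonal entries at the two fundamental roots
  have ev : ∀ q (hq : q < 12), ((a : F) * a) ^ chevG2.pairing 7 q * ((b : F) * b) ^ chevG2.pairing 6 q = 1 := by
    intro q hq
    have := congrFun (congrFun (congrArg (fun g : GL chevG2.Idx F => (g : Matrix chevG2.Idx chevG2.Idx F)) e)
      (Sum.inr ⟨q, lt12 hq⟩)) (Sum.inr ⟨q, lt12 hq⟩)
    simp only [Units.val_mul, coe_hg, hMat_eq_diag goodG (lt12 (by norm_num : 7 < 12)) (mul_ne_zero a.ne_zero a.ne_zero),
      hMat_eq_diag goodG (lt12 (by norm_num : 6 < 12)) (mul_ne_zero b.ne_zero b.ne_zero), dg,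
      Matrix.diagonal_mul_diagonal, Matrix.diagonal_apply_eq, Sum.elim_inr, Units.val_one, Matrix.one_apply_eq,
      Units.val_zpow_eq_zpow_val, Units.val_mk0] at this
    exact this
  have tab : chevG2.pairing 7 10 = 3 ∧ chevG2.pairing 6 10 = -1 ∧ chevG2.pairing 7 9 = 1 ∧
      chevG2.pairing 6 9 = 0 := by decide +kernel
  have ea : (a : F) * a = 1 := by
    have := ev 9 (by norm_num)
    rw [tab.2.2.1, tab.2.2.2, zpow_one, zpow_zero, mul_one] at this
    exact this
  have eb : (b : F) * b = 1 := by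
    have := ev 10 (by norm_num)
    rw [tab.1, tab.2.1, ea, one_zpow, one_mul, zpow_neg_one, inv_eq_one] at this
    exact this
  rcases mul_self_eq_one_iff.1 ea with ha | ha <;> rcases mul_self_eq_one_iff.1 eb with hb | hb <;>
    rw [ha, hb] at h1 ⊢
  · exact absurd (by rw [hg_one, hg_one, one_mul]) h1
  · rw [hg_one, one_mul]
    refine h610.trans ?_
    rw [← h810]
    exact h18.symm
  · rw [hg_one, mul_one]
    exact Cj.refl' _
  · -- h₇(-1) h₆(-1) = h₁₀(-1)
    have e10 : hg goodG F 7 (-1) * hg goodG F 6 (-1) = hg goodG F 10 (-1) := by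
      have hp : ∀ q < 12, (chevG2.pairing 7 q + chevG2.pairing 6 q - chevG2.pairing 10 q) % 2 = 0 := by decide +kernel
      apply Units.ext
      have hm : (-1 : F) ≠ 0 := neg_ne_zero.2 one_ne_zero
      rw [Units.val_mul, coe_hg, coe_hg, coe_hg, hMat_eq_diag goodG (lt12 (by norm_num)) hm,
        hMat_eq_diag goodG (lt12 (by norm_num)) hm, hMat_eq_diag goodG (lt12 (by norm_num)) hm, ChevOrder.dg_mul, dg, dg]
      congr 1
      funext x
      rcases x with i | q
      · rfl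
      · obtain ⟨k, hk⟩ := Int.dvd_of_emod_eq_zero (hp q.val (q.isLt.trans_le nroots_G2.le))
        simp only [Sum.elim_inr, Units.val_mul, Units.val_zpow_eq_zpow_val, Units.val_mk0]
        rw [← zpow_add₀ hm, show chevG2.pairing 7 q.val + chevG2.pairing 6 q.val =
          chevG2.pairing 10 q.val + 2 * k by omega, zpow_add₀ hm, zpow_mul]
        norm_num
    rw [e10, ← h810]
    exact h18.symm

theorem cj_reflection (h20 : (2 : F) ≠ 0) {n : GL chevG2.Idx F} (hn : n ∈ (chevRGD goodG rootsG2 F).N) (h2 : n * n = 1)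
    {r : ℕ} (hr : r < 12) (hp : Perms goodG n (Chev.refl chevG2 r)) :
    ∃ n' ∈ chevG2.diagonalSubgroup F, Cj n n' := by
  have hr' := lt12 hr
  set N := (chevRGD goodG rootsG2 F).N
  set m := ng goodG F r 1
  have hmN : m ∈ N := ng_mem_monomial goodG rootsG2 hr'
  have hk : n * m ∈ chevG2.diagonalSubgroup F := by
    refine mem_diag_of_perms goodG rootsG2 (N.mul_mem hn hmN) ((hp.mul goodG (perms_ng goodG hr' one_ne_zero)).congr goodG ?_)
    intro q hq
    exact refl_refl_G2 r hr q (by rwa [nroots_G2] at hq)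
  -- n = h · n_r(1)
  set h := n * m⁻¹ with hh
  have hhH : h ∈ chevG2.diagonalSubgroup F := by
    have : h = n * m * (m * m)⁻¹ := by rw [hh]; group
    rw [this]
    exact mul_mem hk (inv_mem (ng_mul_mem goodG _ hr' one_ne_zero one_ne_zero))
  rw [← ChevOrder.torusHom_range goodG] at hhH
  obtain ⟨c, hc⟩ := hhH
  obtain ⟨χ, hχ, hχc⟩ := isToral_of_mem goodG (show h ∈ chevG2.diagonalSubgroup F by
    rw [← ChevOrder.torusHom_range goodG]; exact ⟨c, hc⟩)
  have hχ' : ∀ q < chevG2.nroots, χ q = ChevOrder.chi c q := fun q hq => by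
    have := congrFun (congrFun (hc ▸ hχ) (Sum.inr ⟨q, hq⟩)) (Sum.inr ⟨q, hq⟩)
    simp only [ChevOrder.coe_torusHom, dg, Matrix.diagonal_apply_eq, Sum.elim_inr] at this
    exact (Units.ext this).symm
  set S : ℕ → F := fun q => (nSign chevG2 r q : F) with hS
  have act : ∀ q < chevG2.nroots, ∀ u, n * xg goodG F q u * n⁻¹ =
      xg goodG F (Chev.refl chevG2 r q) ((ChevOrder.chi c (Chev.refl chevG2 r q) : F) * (S q * u)) := by
    intro q hq u
    have e : n = h * m := by rw [hh]; group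
    rw [e, show h * m * xg goodG F q u * (h * m)⁻¹ = h * (m * xg goodG F q u * m⁻¹) * h⁻¹ by group]
    have e2 : m * xg goodG F q u * m⁻¹ = xg goodG F (Chev.refl chevG2 r q) (S q * u) := by
      rw [mul_inv_eq_iff_eq_mul]
      apply Units.ext
      rw [Units.val_mul, Units.val_mul, coe_ng, coe_xg, coe_xg, nMat_conj goodG hr' hq one_ne_zero, one_zpow, mul_one]
    rw [e2, hχc, mul_inv_cancel_right, hχ' _ (refl_lt goodG hr' hq)]
  obtain ⟨s, hs, hpair⟩ := exists_pairing_one r hr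
  have hs' := lt12 hs
  have hrs := refl_lt goodG hr' hs'
  -- n² = 1 at s
  have q1 : (ChevOrder.chi c s : F) * S (Chev.refl chevG2 r s) *
      ((ChevOrder.chi c (Chev.refl chevG2 r s) : F) * S s) = 1 := by
    have e1 : n * (n * xg goodG F s 1 * n⁻¹) * n⁻¹ = xg goodG F s 1 := by
      calc _ = (n * n) * xg goodG F s 1 * (n * n)⁻¹ := by group
        _ = _ := by rw [h2]; group
    rw [act s hs', act _ hrs, refl_refl_G2 r hr s hs] at e1
    have := xg_param_inj goodG hs' e1
    linear_combination this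
  -- n_r(1)² = h_r(-1) at s
  have q2 : S (Chev.refl chevG2 r s) * S s = -1 := by
    have e1 : m * (m * xg goodG F s 1 * m⁻¹) * m⁻¹ = xg goodG F s (-1) := by
      calc _ = (m * m) * xg goodG F s 1 * (m * m)⁻¹ := by group
        _ = _ := by
          rw [ng_sq goodG hr', hg_conj goodG hr' (neg_ne_zero.2 one_ne_zero), hpair, mul_inv_cancel_right]
          norm_num
    have e2 : ∀ q < chevG2.nroots, ∀ u, m * xg goodG F q u * m⁻¹ = xg goodG F (Chev.refl chevG2 r q) (S q * u) := by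
      intro q hq u
      rw [mul_inv_eq_iff_eq_mul]
      apply Units.ext
      rw [Units.val_mul, Units.val_mul, coe_ng, coe_xg, coe_xg, nMat_conj goodG hr' hq one_ne_zero, one_zpow, mul_one]
    rw [e2 s hs', e2 _ hrs, refl_refl_G2 r hr s hs, mul_one] at e1
    exact xg_param_inj goodG hs' e1
  have chiR : ChevOrder.chi c (Chev.refl chevG2 r s) = ChevOrder.chi c s * (ChevOrder.chi c r)⁻¹ := by
    simp only [ChevOrder.chi, ← Finset.prod_inv_distrib, ← Finset.prod_mul_distrib, ← zpow_neg, ← zpow_add]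
    refine Finset.prod_congr rfl fun k _ => ?_
    rw [(isLin_cartan goodG k.isLt).refl goodG hr' hs', hpair, one_mul, sub_eq_add_neg]
  have hval : (ChevOrder.chi c r : F) = -((ChevOrder.chi c s : F) * ChevOrder.chi c s) := by
    have hne := (ChevOrder.chi c r).ne_zero
    rw [chiR, Units.val_mul, Units.val_inv_eq_inv_val] at q1
    field_simp at q1
    linear_combination ((ChevOrder.chi c s : F) * ChevOrder.chi c s) * q2 - q1
  -- the factor at r is a square
  have hnr : ∀ u, n * xg goodG F r u * n⁻¹ =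
      xg goodG F (chevG2.neg r) ((((ChevOrder.chi c s)⁻¹ * (ChevOrder.chi c s)⁻¹ : Fˣ) : F) * u) := by
    intro u
    rw [act r hr', show Chev.refl chevG2 r r = chevG2.neg r by simp [Chev.refl]]
    congr 1
    have hneg : (ChevOrder.chi c (chevG2.neg r) : F) = (ChevOrder.chi c r : F)⁻¹ := by
      rw [← Units.val_inv_eq_inv_val]
      congr 1
      simp only [ChevOrder.chi, ← Finset.prod_inv_distrib, ← zpow_neg]
      exact Finset.prod_congr rfl fun k _ => by rw [goodG.cartan_neg r hr' k.val k.isLt]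
    have hS' : S r = -1 := by
      simp [hS, nSign]
    rw [hneg, hS', hval, Units.val_mul, Units.val_inv_eq_inv_val]
    field_simp
  obtain ⟨g, hg, t, ht, e⟩ := conj_split goodG hr' h20 h2 hnr (μ := ((ChevOrder.chi c s : F))⁻¹)
    (by rw [Units.val_mul, Units.val_inv_eq_inv_val])
  refine ⟨g * n * g⁻¹, ?_, g, hg, rfl⟩
  rw [e]
  refine mem_diag_of_perms goodG rootsG2 (N.mul_mem ?_ hn) (((perms_ng goodG hr' ht).mul goodG hp).congr goodG ?_)
  · rw [ng_eq_hg_mul goodG r t]
    exact N.mul_mem ((chevRGD goodG rootsG2 F).H_le_N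
      (Subgroup.subset_closure ⟨r, t, hr', ht, coe_hg goodG _ _⟩)) (ng_mem_monomial goodG rootsG2 hr')
  · intro q hq
    exact refl_refl_G2 r hr q (by rwa [nroots_G2] at hq)

theorem cj_neg [Fintype F] (hF : ringChar F ≠ 2) (h20 : (2 : F) ≠ 0) {n : GL chevG2.Idx F}
    (hn : n ∈ (chevRGD goodG rootsG2 F).N) (h2 : n * n = 1) (hp : Perms goodG n (pf negP)) :
    ∃ n' ∈ chevG2.diagonalSubgroup F, Cj n n' := by
  set N := (chevRGD goodG rootsG2 F).N
  have fac : ∀ {m : GL chevG2.Idx F}, Perms goodG m (pf negP) → ∀ r < 12, ∃ ε : Fˣ,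
      ∀ u, m * xg goodG F r u * m⁻¹ = xg goodG F (chevG2.neg r) ((ε : F) * u) := by
    intro m hm r hr
    obtain ⟨-, c, hc, hcu⟩ := hm r (lt12 hr)
    exact ⟨Units.mk0 c hc, fun u => by rw [hcu, (refl_eq r hr).2.2.2.2, Units.val_mk0]⟩
  obtain ⟨δ, hδ⟩ := fac hp 7 (by norm_num)
  obtain ⟨ε, hε⟩ := fac hp 6 (by norm_num)
  obtain ⟨g, hg', e⟩ := conj_move goodG (lt12 (by norm_num : 7 < 12)) hF h2 hδ ε
  have hgc : Cj n (g * n * g⁻¹) := ⟨g, hg', rfl⟩
  have h2' := hgc.sq h2
  rw [e] at h2' hgc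
  set n1 := hg goodG F 7 (ε : F) * n with hn1
  have hH : hg goodG F 7 (ε : F) ∈ chevG2.diagonalSubgroup F :=
    Subgroup.subset_closure ⟨7, ε, lt12 (by norm_num), ε.ne_zero, coe_hg goodG _ _⟩
  have hn1N : n1 ∈ N := N.mul_mem ((chevRGD goodG rootsG2 F).H_le_N hH) hn
  have hp1 : Perms goodG n1 (pf negP) := ((perms_diag goodG hH).mul goodG hp).congr goodG fun q _ => rfl
  have hε1 : ∀ u, n1 * xg goodG F 6 u * n1⁻¹ = xg goodG F (chevG2.neg 6) (((ε * ε * (ε * ε) : Fˣ) : F) * u) := by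
    intro u
    rw [hn1, show ∀ a b x : GL chevG2.Idx F, a * b * x * (a * b)⁻¹ = a * (b * x * b⁻¹) * a⁻¹ from
      fun a b x => by group, hε, simples.2.2.2.2, hg_conj goodG (lt12 (by norm_num)) ε.ne_zero, pairing_7_5,
      mul_inv_cancel_right]
    congr 1
    push_cast
    rw [show (3 : ℤ) = ((3 : ℕ) : ℤ) from rfl, zpow_natCast]
    ring
  obtain ⟨g2, hg2, t, ht, e2⟩ := conj_split goodG (lt12 (by norm_num : 6 < 12)) h20 h2' hε1
    (μ := ((ε * ε : Fˣ) : F)) (by rw [← Units.val_mul])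
  have hgc2 : Cj n1 (g2 * n1 * g2⁻¹) := ⟨g2, hg2, rfl⟩
  have h22 := hgc2.sq h2'
  rw [e2] at hgc2 h22
  obtain ⟨r, hr, hrq⟩ := refl_six_neg
  have hN6 : ng goodG F 6 t ∈ N := by
    rw [ng_eq_hg_mul goodG 6 t]
    exact N.mul_mem ((chevRGD goodG rootsG2 F).H_le_N
      (Subgroup.subset_closure ⟨6, t, lt12 (by norm_num), ht, coe_hg goodG _ _⟩))
      (ng_mem_monomial goodG rootsG2 (lt12 (by norm_num)))
  obtain ⟨n', hn', hc'⟩ := cj_reflection h20 (n := ng goodG F 6 t * n1) (N.mul_mem hN6 hn1N) h22 hr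
    (((perms_ng goodG (lt12 (by norm_num)) ht).mul goodG hp1).congr goodG fun q hq =>
      hrq q (by rwa [nroots_G2] at hq))
  exact ⟨n', hn', hgc.trans (hgc2.trans hc')⟩

/-- Every involution is conjugate to `zG`. -/
theorem conj_z [Fintype F] (hF : ringChar F ≠ 2) {t : GL chevG2.Idx F} (ht : t ∈ chevG2.group F) (h2 : t * t = 1)
    (h1 : t ≠ 1) : Cj t (zG F) := by
  have h20 : (2 : F) ≠ 0 := Ring.two_ne_zero hF
  obtain ⟨g, hg, hN, hsq⟩ := exists_monomial_conj goodG rootsG2 hF ht h2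
  set n := g * t * g⁻¹ with hn
  have hc : Cj t n := ⟨g, hg, rfl⟩
  suffices h : ∃ n' ∈ chevG2.diagonalSubgroup F, Cj n n' by
    obtain ⟨n', hn', hc'⟩ := h
    exact hc.trans (hc'.trans (cj_diag hn' (hc'.sq hsq) (hc'.ne_one (hc.ne_one h1))))
  obtain ⟨p, hp, hP⟩ := exists_w12 hN
  have hinv : ∀ q < 12, pf p (pf p q) = q := by
    intro q hq
    have h3 := hP.mul goodG hP
    rw [hsq] at h3
    exact h3.unique goodG ((perms_diag goodG (one_mem _)).congr goodG fun q _ => rfl) (lt12 hq)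
  rcases w12_cases p hp hinv with rfl | rfl | ⟨r, hr, hrq⟩
  · exact ⟨n, mem_diag_of_perms goodG rootsG2 hN
      (hP.congr goodG fun q hq => (refl_eq q (by rwa [nroots_G2] at hq)).1), Cj.refl' _⟩
  · exact cj_neg hF h20 hN hsq hP
  · exact cj_reflection h20 hN hsq hr (hP.congr goodG fun q hq => hrq q (by rwa [nroots_G2] at hq))

end Cfsg.Agent.G2Invol
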