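/-
The centraliser of an involution in the Chevalley group of type G₂, odd characteristic.

* `rA`, `rB`: the SL₂ of the roots 7 and 11; `mem_top_of_commute`: the centraliser of `zG` is their product with H.
* `centralizer_package`: order and structure of the centraliser of an arbitrary involution.
-/
import Cfsg.Agent.Lib.G2Invol.Classes
import Cfsg.Agent.Lib.Chev.UniqueProduct
import Cfsg.Agent.Lib.GLOrder.Basic
import Cfsg.Agent.Lib.ChevSt.Centre

set_option autoImplicit false

namespace Cfsg.Agent.G2Invol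

open Cfsg.Lie Cfsg.Lie.ChevalleyDatum Cfsg.Agent.Chev Cfsg.Agent.ChevBN Cfsg.Agent.ChevSt Cfsg.Agent.ChevInvolOdd
  Cfsg.Agent.Chev.RankOne
open scoped MatrixGroups

variable (F : Type*) [Field F]

/-- The SL₂ of the short root 7. -/
noncomputable def rA : SL(2, F) →* GL chevG2.Idx F := sl2Hom goodG (r := 7) (lt12 (by norm_num))

/-- The SL₂ of the long root 11. -/
noncomputable def rB : SL(2, F) →* GL chevG2.Idx F := sl2Hom goodG (r := 11) (lt12 (by norm_num))

/-- The product of the two SL₂. -/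
noncomputable def prodAB : Subgroup (GL chevG2.Idx F) := (rA F).range ⊔ (rB F).range

/-- The centraliser of `zG`. -/
noncomputable def topK : Subgroup (GL chevG2.Idx F) := prodAB F ⊔ chevG2.diagonalSubgroup F

variable {F}

theorem rA_range : (rA F).range = chevG2.rootSubgroup F 7 ⊔ chevG2.rootSubgroup F 4 := by
  rw [rA, sl2Hom_range, simples.2.2.1]

theorem rB_range : (rB F).range = chevG2.rootSubgroup F 11 ⊔ chevG2.rootSubgroup F 0 := by
  rw [rB, sl2Hom_range, simples.2.2.2.1]

theorem xg_mem_prodAB {q : ℕ} (hq : q ∈ [0, 4, 7, 11]) (u : F) : xg goodG F q u ∈ prodAB F := by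
  rw [prodAB, rA_range, rB_range]
  have h := xg_mem_rootSubgroup goodG (F := F) q u
  simp only [List.mem_cons, List.not_mem_nil, or_false] at hq
  rcases hq with rfl | rfl | rfl | rfl
  · exact Subgroup.mem_sup_right (Subgroup.mem_sup_right h)
  · exact Subgroup.mem_sup_left (Subgroup.mem_sup_right h)
  · exact Subgroup.mem_sup_left (Subgroup.mem_sup_left h)
  · exact Subgroup.mem_sup_right (Subgroup.mem_sup_left h)

theorem prodAB_le {T : Subgroup (GL chevG2.Idx F)} (h : ∀ q ∈ [0, 4, 7, 11], ∀ u, xg goodG F q u ∈ T) :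
    prodAB F ≤ T := by
  rw [prodAB, rA_range, rB_range]
  refine sup_le (sup_le ?_ ?_) (sup_le ?_ ?_) <;> intro g hg <;> obtain ⟨u, rfl⟩ := (mem_rootSubgroup goodG _).1 hg <;>
    exact h _ (by simp) u

theorem rAB_commute (A B : SL(2, F)) : Commute (rA F A) (rB F B) := by
  have hle : ∀ s ∈ [0, 11], ∀ v : F, (rA F).range ≤ Subgroup.centralizer {xg goodG F s v} := by
    intro s hs v
    rw [rA_range]
    refine sup_le ?_ ?_ <;> intro g hg <;> obtain ⟨u, rfl⟩ := (mem_rootSubgroup goodG _).1 hg <;>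
      rw [Subgroup.mem_centralizer_singleton_iff]
    all_goals
      first
      | (obtain ⟨h1, h2, h3⟩ := orth_comm 7 (by simp) s hs
         have := xg_commutator F goodG (lt12 (by norm_num : 7 < 12)) (s := s)
           (lt12 (by simp only [List.mem_cons, List.not_mem_nil, or_false] at hs; omega)) h1 h2 u v
         rw [ChevalleyDatum.commWord, h3, List.map_nil, List.map_nil, List.prod_nil, mul_one] at this
         exact this.symm)
      | (obtain ⟨h1, h2, h3⟩ := orth_comm 4 (by simp) s hs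
         have := xg_commutator F goodG (lt12 (by norm_num : 4 < 12)) (s := s)
           (lt12 (by simp only [List.mem_cons, List.not_mem_nil, or_false] at hs; omega)) h1 h2 u v
         rw [ChevalleyDatum.commWord, h3, List.map_nil, List.map_nil, List.prod_nil, mul_one] at this
         exact this.symm)
  have h2 : (rB F).range ≤ Subgroup.centralizer ((rA F).range : Set (GL chevG2.Idx F)) := by
    rw [rB_range]
    refine sup_le ?_ ?_ <;> intro g hg <;> obtain ⟨u, rfl⟩ := (mem_rootSubgroup goodG _).1 hg <;>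
      rw [Subgroup.mem_centralizer_iff] <;> intro x hx <;>
      exact Subgroup.mem_centralizer_singleton_iff.1 (hle _ (by simp) u hx)
  exact Subgroup.mem_centralizer_iff.1 (h2 ⟨B, rfl⟩) _ ⟨A, rfl⟩

theorem rA_injective (h20 : (2 : F) ≠ 0) : Function.Injective (rA F) :=
  sl2Hom_injective goodG _ h20 (s := 5) (lt12 (by norm_num)) ⟨1, by rw [pairing_7_5]; norm_num⟩

theorem rB_injective (h20 : (2 : F) ≠ 0) : Function.Injective (rB F) := by
  obtain ⟨s, hs, e⟩ := exists_pairing_one 11 (by norm_num)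
  exact sl2Hom_injective goodG _ h20 (s := s) (lt12 hs) ⟨0, by rw [e]; norm_num⟩

theorem rA_neg_one : rA F (-1) = zG F := by
  rw [rA, sl2Hom_diag goodG _ (-1) _ (by simp) (by simp) (by simp), zG, Units.val_neg, Units.val_one]

theorem rB_neg_one : rB F (-1) = zG F := by
  rw [rB, sl2Hom_diag goodG _ (-1) _ (by simp) (by simp) (by simp), zG_eq, Units.val_neg, Units.val_one]

theorem center_cases {A : SL(2, F)} (hx : Commute A (slX 1)) (hy : Commute A (slY 1)) : A = 1 ∨ A = -1 := by
  have h1 := congrArg (fun X : SL(2, F) => X.1) hx.eq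
  have h2 := congrArg (fun X : SL(2, F) => X.1) hy.eq
  simp only [Matrix.SpecialLinearGroup.coe_mul] at h1 h2
  have a00 := congrFun (congrFun h1 0) 0
  have a01 := congrFun (congrFun h1 0) 1
  have b00 := congrFun (congrFun h2 0) 0
  simp [slX, slY, Matrix.mul_apply, Fin.sum_univ_two] at a00 a01 b00
  have hd := det_eq A
  have hc : A.1 1 0 = 0 := a00
  have hb : A.1 0 1 = 0 := b00
  have had : A.1 1 1 = A.1 0 0 := by linear_combination -a01
  rw [hb, zero_mul, sub_zero, had] at hd
  rcases mul_self_eq_one_iff.1 hd with h | h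
  · left
    apply Subtype.ext
    ext i j
    fin_cases i <;> fin_cases j <;> simp [h, hb, hc, had]
  · right
    apply Subtype.ext
    ext i j
    fin_cases i <;> fin_cases j <;> simp [h, hb, hc, had]

theorem rA_eq_rB (h20 : (2 : F) ≠ 0) {A B : SL(2, F)} (e : rA F A = rB F B) : A = 1 ∧ B = 1 ∨ A = -1 ∧ B = -1 := by
  have h : ∀ X, Commute A X := fun X => rA_injective h20 (by
    rw [map_mul, map_mul, e]
    exact (rAB_commute X B).symm.eq)
  rcases center_cases (h (slX 1)) (h (slY 1)) with rfl | rfl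
  · exact Or.inl ⟨rfl, rB_injective h20 (by rw [← e, map_one, map_one])⟩
  · exact Or.inr ⟨rfl, rB_injective h20 (by rw [← e, rA_neg_one, rB_neg_one])⟩

theorem inter_AB (h20 : (2 : F) ≠ 0) : (rA F).range ⊓ (rB F).range = Subgroup.zpowers (zG F) := by
  refine le_antisymm ?_ (Subgroup.zpowers_le.2 ⟨⟨-1, rA_neg_one⟩, -1, rB_neg_one⟩)
  rintro x ⟨⟨A, rfl⟩, B, e⟩
  rcases rA_eq_rB h20 e.symm with ⟨rfl, -⟩ | ⟨rfl, -⟩
  · rw [map_one]; exact one_mem _
  · rw [rA_neg_one]; exact Subgroup.mem_zpowers _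

theorem card_prodAB [Fintype F] (h20 : (2 : F) ≠ 0) :
    2 * Nat.card (prodAB F) = (Nat.card F * (Nat.card F ^ 2 - 1)) ^ 2 := by
  set Φ := (rA F).noncommCoprod (rB F) rAB_commute with hΦ
  have hr : Φ.range = prodAB F := MonoidHom.noncommCoprod_range _ _ _
  have hk : (Φ.ker : Set (SL(2, F) × SL(2, F))) = {((1 : SL(2, F)), (1 : SL(2, F))), ((-1 : SL(2, F)), (-1 : SL(2, F)))} := by
    ext ⟨A, B⟩
    simp only [SetLike.mem_coe, MonoidHom.mem_ker, hΦ, MonoidHom.noncommCoprod_apply, Set.mem_insert_iff,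
      Set.mem_singleton_iff, Prod.mk.injEq]
    constructor
    · intro e
      rw [mul_eq_one_iff_eq_inv, ← map_inv] at e
      rcases rA_eq_rB h20 e with ⟨h1, h2⟩ | ⟨h1, h2⟩
      · exact Or.inl ⟨h1, inv_eq_one.1 h2⟩
      · refine Or.inr ⟨h1, ?_⟩
        rw [← inv_inv B, h2]
        exact inv_eq_of_mul_eq_one_right (by simp)
    · rintro (⟨rfl, rfl⟩ | ⟨rfl, rfl⟩)
      · rw [map_one, map_one, one_mul]
      · rw [rA_neg_one, rB_neg_one, zG_sq]
  have hne : ((1 : SL(2, F)), (1 : SL(2, F))) ≠ ((-1 : SL(2, F)), (-1 : SL(2, F))) := by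
    intro e
    have := congrFun (congrFun (congrArg (fun p : SL(2, F) × SL(2, F) => p.1.1) e) 0) 0
    simp at this
    exact h20 (by linear_combination this)
  have hck : Nat.card Φ.ker = 2 := by
    rw [← SetLike.coe_sort_coe, Nat.card_coe_set_eq, hk]
    exact Set.ncard_pair hne
  have h := Subgroup.card_eq_card_quotient_mul_card_subgroup Φ.ker
  rw [Nat.card_congr (QuotientGroup.quotientKerEquivRange Φ).toEquiv, hr, hck, Nat.card_prod,
    GLOrder.card_SL_two] at h
  rw [sq, h, mul_comm]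

theorem diag_normalizes {h : GL chevG2.Idx F} (hh : h ∈ chevG2.diagonalSubgroup F) :
    h ∈ Subgroup.normalizer (prodAB F : Set (GL chevG2.Idx F)) := by
  have key : ∀ h ∈ chevG2.diagonalSubgroup F, ∀ x ∈ prodAB F, h * x * h⁻¹ ∈ prodAB F := by
    intro h hh
    have hle : prodAB F ≤ (prodAB F).comap (MulAut.conj h).toMonoidHom := by
      refine prodAB_le fun q hq u => ?_
      obtain ⟨χ, -, hc⟩ := isToral_of_mem goodG hh
      show h * xg goodG F q u * h⁻¹ ∈ prodAB F
      rw [hc, mul_inv_cancel_right]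
      exact xg_mem_prodAB hq _
    exact fun x hx => hle hx
  rw [Subgroup.mem_normalizer_iff]
  exact fun x => ⟨key h hh x, fun hx => by simpa [mul_assoc] using key _ (inv_mem hh) _ hx⟩

theorem relIndex_topK [Fintype F] (hF : ringChar F ≠ 2) : (prodAB F).relIndex (topK F) = 2 := by
  classical
  have h20 : (2 : F) ≠ 0 := Ring.two_ne_zero hF
  obtain ⟨γ, hγ⟩ := FiniteField.exists_nonsquare hF
  have hγ0 : γ ≠ 0 := by rintro rfl; exact hγ ⟨0, by ring⟩
  have h6 : hg goodG F 6 γ ∈ chevG2.diagonalSubgroup F :=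
    Subgroup.subset_closure ⟨6, γ, lt12 (by norm_num), hγ0, coe_hg goodG _ _⟩
  have hnot : hg goodG F 6 γ ∉ prodAB F := by
    intro hP
    have hr : ((rA F).noncommCoprod (rB F) rAB_commute).range = prodAB F := MonoidHom.noncommCoprod_range _ _ _
    rw [← hr] at hP
    obtain ⟨⟨A, B⟩, hAB⟩ := hP
    rw [MonoidHom.noncommCoprod_apply] at hAB
    have e1 : hg goodG F 6 γ * rA F (slX 1) * (hg goodG F 6 γ)⁻¹ = rA F (slX γ⁻¹) := by
      rw [rA, sl2Hom_slX, sl2Hom_slX, hg_conj goodG (lt12 (by norm_num)) hγ0, pairing_6_7, mul_inv_cancel_right,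
        zpow_neg_one, mul_one]
    rw [← hAB, show rA F A * rB F B * rA F (slX 1) * (rA F A * rB F B)⁻¹ =
      rA F A * (rB F B * rA F (slX 1) * (rB F B)⁻¹) * (rA F A)⁻¹ by group,
      ← (rAB_commute (slX 1) B).eq, mul_inv_cancel_right, ← map_inv, ← map_mul, ← map_mul] at e1
    have e2 := congrFun (congrFun (congrArg (fun X : SL(2, F) => X.1) (rA_injective h20 e1)) 0) 1
    have hi : (A⁻¹ : SL(2, F)).1 = !![A.1 1 1, -A.1 0 1; -A.1 1 0, A.1 0 0] := by
      rw [← Matrix.adjugate_fin_two]; exact Matrix.SpecialLinearGroup.coe_inv A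
    simp only [Matrix.SpecialLinearGroup.coe_mul, hi] at e2
    simp [slX, Matrix.mul_apply, Fin.sum_univ_two] at e2
    ring_nf at e2
    refine hγ ⟨(A.1 0 0)⁻¹, ?_⟩
    rw [← inv_inv γ, ← e2, ← mul_inv, sq]
  have hsq : ∀ h ∈ chevG2.diagonalSubgroup F, h ∈ prodAB F ∨ hg goodG F 6 γ * h ∈ prodAB F := by
    intro h hh
    obtain ⟨a, b, rfl⟩ := exists_hg_mul hh
    have hA : ∀ t : Fˣ, hg goodG F 7 (t : F) ∈ prodAB F := fun t => by
      rw [hg, ng, ng, simples.2.2.1]
      exact mul_mem (mul_mem (mul_mem (xg_mem_prodAB (by simp) _) (xg_mem_prodAB (by simp) _)) (xg_mem_prodAB (by simp) _))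
        (mul_mem (mul_mem (xg_mem_prodAB (by simp) _) (xg_mem_prodAB (by simp) _)) (xg_mem_prodAB (by simp) _))
    have hB : ∀ t : Fˣ, hg goodG F 11 (t : F) ∈ prodAB F := fun t => by
      rw [hg, ng, ng, simples.2.2.2.1]
      exact mul_mem (mul_mem (mul_mem (xg_mem_prodAB (by simp) _) (xg_mem_prodAB (by simp) _)) (xg_mem_prodAB (by simp) _))
        (mul_mem (mul_mem (xg_mem_prodAB (by simp) _) (xg_mem_prodAB (by simp) _)) (xg_mem_prodAB (by simp) _))
    -- h₁₁(s) = h₇(s) h₆(s²)
    have hcor : ∀ s : F, s ≠ 0 → hg goodG F 11 s = hg goodG F 7 s * hg goodG F 6 (s * s) := by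
      intro s hs
      have hp : ∀ q < 12, chevG2.pairing 11 q = chevG2.pairing 7 q + 2 * chevG2.pairing 6 q := by decide +kernel
      apply Units.ext
      rw [Units.val_mul, coe_hg, coe_hg, coe_hg, hMat_eq_diag goodG (lt12 (by norm_num)) hs,
        hMat_eq_diag goodG (lt12 (by norm_num)) hs, hMat_eq_diag goodG (lt12 (by norm_num)) (mul_ne_zero hs hs),
        ChevOrder.dg_mul, dg, dg]
      congr 1
      funext x
      rcases x with i | q
      · rfl
      · simp only [Sum.elim_inr, Units.val_mul, Units.val_zpow_eq_zpow_val, Units.val_mk0]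
        rw [hp q.val (q.isLt.trans_le nroots_G2.le), zpow_add₀ hs, zpow_mul, zpow_two]
    have hsquare : ∀ (x : Fˣ) (s : F), s ≠ 0 → hg goodG F 7 (x : F) * hg goodG F 6 (s * s) ∈ prodAB F := by
      intro x s hs
      have : hg goodG F 7 (x : F) * hg goodG F 6 (s * s) = hg goodG F 7 (x : F) * (hg goodG F 7 s)⁻¹ * hg goodG F 11 s := by
        rw [hcor s hs]; group
      rw [this]
      exact mul_mem (mul_mem (hA x) (inv_mem (hA (Units.mk0 s hs)))) (hB (Units.mk0 s hs))
    by_cases hb : IsSquare (b : F)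
    · obtain ⟨s, hs⟩ := hb
      left
      rw [hs]
      exact hsquare a s fun e => b.ne_zero (by rw [hs, e, mul_zero])
    · right
      obtain ⟨s, hs⟩ : IsSquare (γ * (b : F)) := by
        rcases (quadraticChar_dichotomy (F := F) (mul_ne_zero hγ0 b.ne_zero)) with h | h
        · exact (quadraticChar_one_iff_isSquare (mul_ne_zero hγ0 b.ne_zero)).1 h
        · rw [map_mul, quadraticChar_neg_one_iff_not_isSquare.2 hγ, quadraticChar_neg_one_iff_not_isSquare.2 hb] at h
          exact absurd h (by norm_num)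
      rw [show hg goodG F 6 γ * (hg goodG F 7 (a : F) * hg goodG F 6 (b : F)) =
          hg goodG F 7 (a : F) * (hg goodG F 6 γ * hg goodG F 6 (b : F)) by
        rw [← mul_assoc, ← mul_assoc, diag_commute goodG h6
          (Subgroup.subset_closure ⟨7, a, lt12 (by norm_num), a.ne_zero, coe_hg goodG _ _⟩)],
        hg_mul goodG (lt12 (by norm_num)) hγ0 b.ne_zero, hs]
      exact hsquare a s fun e => mul_ne_zero hγ0 b.ne_zero (by rw [hs, e, mul_zero])
  rw [Subgroup.relIndex, Subgroup.index_eq_two_iff']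
  refine ⟨⟨hg goodG F 6 γ, Subgroup.mem_sup_right h6⟩, fun ⟨x, hx⟩ => ?_⟩
  simp only [Subgroup.mem_subgroupOf, Subgroup.coe_mul]
  by_cases hxP : x ∈ prodAB F
  · exact Or.inr ⟨hxP, fun h => hnot ((Subgroup.mul_mem_cancel_right _ hxP).1 h)⟩
  · refine Or.inl ⟨?_, hxP⟩
    obtain ⟨p, hp, h, hh, rfl⟩ := ChevOrder.exists_of_mem_sup (fun y hy => diag_normalizes hy) hx
    rcases hsq h hh with h1 | h1
    · exact absurd (mul_mem hp h1) hxP
    · rw [show hg goodG F 6 γ * (p * h) = hg goodG F 6 γ * p * (hg goodG F 6 γ)⁻¹ * (hg goodG F 6 γ * h) by group]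
      exact mul_mem ((Subgroup.mem_normalizer_iff.1 (diag_normalizes h6) p).1 hp) h1

theorem topK_le : topK F ≤ chevG2.group F ⊓ Subgroup.centralizer {zG F} := by
  have hz : zG F ∈ chevG2.diagonalSubgroup F :=
    Subgroup.subset_closure ⟨7, -1, lt12 (by norm_num), neg_ne_zero.2 one_ne_zero, coe_hg goodG _ _⟩
  refine sup_le (prodAB_le fun q hq u => ⟨xg_mem_group goodG _ _, Subgroup.mem_centralizer_singleton_iff.2 ?_⟩) ?_
  · rw [zG, hg_conj goodG (lt12 (by norm_num)) (neg_ne_zero.2 one_ne_zero)]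
    obtain ⟨k, hk⟩ := Int.dvd_of_emod_eq_zero (pairing_centralize q hq)
    rw [hk, zpow_mul]
    norm_num
  · intro h hh
    refine ⟨borel_le_group goodG rootsG2 (Subgroup.mem_sup_right hh), Subgroup.mem_centralizer_singleton_iff.2 ?_⟩
    exact diag_commute goodG hh hz

theorem Upos_fixed {h20 : (2 : F) ≠ 0} {u : GL chevG2.Idx F} (hu : u ∈ chevG2.posUnipotent F)
    (hc : zG F * u * (zG F)⁻¹ = u) : u ∈ topK F := by
  obtain ⟨o, ho⟩ := goodG.order
  have hz : zG F ∈ chevG2.diagonalSubgroup F :=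
    Subgroup.subset_closure ⟨7, -1, lt12 (by norm_num), neg_ne_zero.2 one_ne_zero, coe_hg goodG _ _⟩
  set S := ChevOrder.matSys chevG2 goodG F
  have hmem : u ∈ S.genBy {q | q ∈ chevG2.posRoots} := by
    refine (Subgroup.closure_le _).2 ?_ hu
    rintro g ⟨r, t, hr, e⟩
    refine Subgroup.subset_closure ⟨r, ?_, t, Units.ext (e.trans ?_)⟩
    · show r ∈ chevG2.posRoots
      simp only [posRoots, List.mem_filter, List.mem_range]
      exact ⟨hr.1, decide_eq_true hr⟩
    · exact (coe_xg goodG r t).symm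
  obtain ⟨c, -, rfl⟩ := UProd.exists_prod goodG ho _ (UProd.seg_posRoots ho) u hmem
  have e : ((chevG2.posRoots).map fun r => S.x r ((-1 : F) ^ chevG2.pairing 7 r * c r)).prod =
      ((chevG2.posRoots).map fun r => S.x r (c r)).prod := by
    conv_rhs => rw [← hc, ← MulAut.conj_apply, map_list_prod, List.map_map]
    refine congrArg List.prod (List.map_congr_left fun r _ => ?_)
    show xg goodG F r _ = zG F * xg goodG F r (c r) * (zG F)⁻¹
    rw [zG, hg_conj goodG (lt12 (by norm_num)) (neg_ne_zero.2 one_ne_zero), mul_inv_cancel_right]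
  have h0 := UProd.prod_inj goodG ho _ (UProd.seg_posRoots ho) _ _ e
  refine list_prod_mem fun g hg => ?_
  obtain ⟨r, hr, rfl⟩ := List.mem_map.1 hg
  show xg goodG F r (c r) ∈ topK F
  by_cases hc0 : c r = 0
  · rw [hc0, xg_zero]; exact one_mem _
  have hrp : r < chevG2.nroots ∧ chevG2.IsPosRoot r := by
    simp only [posRoots, List.mem_filter, List.mem_range, decide_eq_true_eq] at hr
    exact ⟨hr.1, hr.2⟩
  have hr12 : r < 12 := hrp.1.trans_le nroots_G2.le
  have h1 : (-1 : F) ^ chevG2.pairing 7 r = 1 := by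
    have := h0 r hr
    exact mul_right_cancel₀ hc0 (by rw [one_mul]; exact this)
  have hev : chevG2.pairing 7 r % 2 = 0 := by
    rcases Int.even_or_odd (chevG2.pairing 7 r) with ⟨k, hk⟩ | hk
    · omega
    · rw [hk.neg_one_zpow] at h1
      exact absurd (by linear_combination -h1 : (2 : F) = 0) h20
  refine Subgroup.mem_sup_left (xg_mem_prodAB ?_ _)
  rcases pairing_pos_even r hr12 ((pos_list r hr12).1 hrp.2) hev with rfl | rfl <;> simp

theorem mem_top_of_commute [Fintype F] (h20 : (2 : F) ≠ 0) {g : GL chevG2.Idx F} (hg : g ∈ chevG2.group F)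
    (hc : g * zG F = zG F * g) : g ∈ topK F := by
  set R := chevRGD goodG rootsG2 F
  set z := zG F with hz'
  have hzH : z ∈ R.H :=
    Subgroup.subset_closure ⟨7, -1, lt12 (by norm_num), neg_ne_zero.2 one_ne_zero, coe_hg goodG _ _⟩
  rw [← chev_G goodG rootsG2] at hg
  obtain ⟨b, hb, l, u, hu, rfl⟩ := R.exists_normalForm hg
  set m := z * R.nw l * z⁻¹ * (R.nw l)⁻¹ with hm
  have hmH : m ∈ R.H := by
    rw [hm, show z * R.nw l * z⁻¹ * (R.nw l)⁻¹ = z * (R.nw l * z⁻¹ * (R.nw l)⁻¹) by group]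
    exact R.H.mul_mem hzH (R.nw_conj_H l (inv_mem hzH))
  have e : b * R.nw l * u = z * b * z⁻¹ * m * R.nw l * (z * u * z⁻¹) := by
    calc b * R.nw l * u = z * (b * R.nw l * u) * z⁻¹ := by rw [← hc, mul_inv_cancel_right]
      _ = _ := by rw [hm]; group
  obtain ⟨eb, eu⟩ := R.normalForm_unique (k := 1) (one_mem _) (one_mul _).symm hb
    (R.B.mul_mem (R.B.mul_mem (R.B.mul_mem (R.H_le_B hzH) hb) (R.B.inv_mem (R.H_le_B hzH))) (R.H_le_B hmH)) hu
    (R.H_conj_span _ hzH _ hu) e
  have hUposK : ∀ v ∈ R.Upos, z * v * z⁻¹ = v → v ∈ topK F := fun v hv e => by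
    rw [chev_Upos goodG rootsG2] at hv
    exact Upos_fixed (h20 := h20) hv e
  have huK := hUposK u (R.Uminus_le_Upos l hu) eu.symm
  obtain ⟨v, hv, h, hh, rfl⟩ := R.exists_B hb
  have hh' : z * h * z⁻¹ = h := by rw [diag_commute goodG hzH hh, mul_inv_cancel_right]
  have e2 : v * h = z * v * z⁻¹ * (h * m) := by
    conv_lhs => rw [eb]
    rw [show z * (v * h) * z⁻¹ * m = z * v * z⁻¹ * (z * h * z⁻¹) * m by group, hh', mul_assoc _ h m]
  have e3 : (z * v * z⁻¹)⁻¹ * v = h * m * h⁻¹ := by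
    calc (z * v * z⁻¹)⁻¹ * v = (z * v * z⁻¹)⁻¹ * (v * h) * h⁻¹ := by group
      _ = _ := by rw [e2]; group
  have e4 : (z * v * z⁻¹)⁻¹ * v = 1 := by
    rw [← Subgroup.mem_bot, ← R.U_inf_H]
    exact ⟨R.Upos.mul_mem (R.Upos.inv_mem (R.H_conj_span _ hzH _ hv)) hv,
      e3 ▸ R.H.mul_mem (R.H.mul_mem hh hmH) (R.H.inv_mem hh)⟩
  have hvK := hUposK v hv (inv_mul_eq_one.1 e4)
  have hm1 : m = 1 := by
    rw [e4] at e3
    exact conj_eq_one_iff.1 e3.symm
  rw [hm, mul_inv_eq_one] at hm1
  -- the word commutes with z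
  obtain ⟨p, hp, hP⟩ := exists_w12 (R.nw_mem_N l)
  have hpar : ∀ q < 12, (chevG2.pairing 7 (pf p q) - chevG2.pairing 7 q) % 2 = 0 := by
    intro q hq
    obtain ⟨hpq, c, hc0, hcu⟩ := hP q (lt12 hq)
    have hc1 : z * (R.nw l * xg goodG F q 1 * (R.nw l)⁻¹) * z⁻¹ =
        R.nw l * (z * xg goodG F q 1 * z⁻¹) * (R.nw l)⁻¹ := by
      rw [show ∀ a b x : GL chevG2.Idx F, a * (b * x * b⁻¹) * a⁻¹ = a * b * x * (a * b)⁻¹ from fun a b x => by group,
        show ∀ a b x : GL chevG2.Idx F, b * (a * x * a⁻¹) * b⁻¹ = b * a * x * (b * a)⁻¹ from fun a b x => by group]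
      have e5 : z * R.nw l = R.nw l * z := mul_inv_eq_iff_eq_mul.1 hm1
      rw [e5]
    rw [hcu, hz', zG, hg_conj goodG (lt12 (by norm_num)) (neg_ne_zero.2 one_ne_zero), mul_inv_cancel_right,
      hg_conj goodG (lt12 (by norm_num)) (neg_ne_zero.2 one_ne_zero), mul_inv_cancel_right, hcu] at hc1
    have e6 := xg_param_inj goodG hpq hc1
    have e7 : (-1 : F) ^ chevG2.pairing 7 (pf p q) = (-1) ^ chevG2.pairing 7 q :=
      mul_left_cancel₀ hc0 (by linear_combination e6)
    by_contra hpar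
    have hodd : Odd (chevG2.pairing 7 (pf p q) - chevG2.pairing 7 q) := Int.odd_iff.2 (by omega)
    have e8 := hodd.neg_one_zpow (α := F)
    rw [zpow_sub₀ (neg_ne_zero.2 one_ne_zero), e7, div_self (zpow_ne_zero _ (neg_ne_zero.2 one_ne_zero))] at e8
    exact h20 (by linear_combination e8)
  have hnK : ∀ r ∈ [7, 11], ng goodG F r 1 ∈ topK F := by
    intro r hr
    refine Subgroup.mem_sup_left (mul_mem (mul_mem (xg_mem_prodAB ?_ _) (xg_mem_prodAB ?_ _)) (xg_mem_prodAB ?_ _)) <;>
      (simp only [List.mem_cons, List.not_mem_nil, or_false] at hr; rcases hr with rfl | rfl <;>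
        simp [simples.2.2.1, simples.2.2.2.1])
  have hwK : R.nw l ∈ topK F := by
    have fin : ∀ (m : GL chevG2.Idx F), m ∈ topK F → m ∈ R.N → ∀ w, Perms goodG m w →
        (∀ q < 12, w (pf p q) = q) → R.nw l ∈ topK F := by
      intro m hmK hmN w hw hwp
      have hd : m * R.nw l ∈ chevG2.diagonalSubgroup F :=
        mem_diag_of_perms goodG rootsG2 (R.N.mul_mem hmN (R.nw_mem_N l))
          ((hw.mul goodG hP).congr goodG fun q hq => hwp q (hq.trans_le nroots_G2.le))
      rw [show R.nw l = m⁻¹ * (m * R.nw l) by group]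
      exact mul_mem (inv_mem hmK) (Subgroup.mem_sup_right hd)
    have hN7 := ng_mem_monomial goodG rootsG2 (F := F) (lt12 (by norm_num : 7 < 12))
    have hN11 := ng_mem_monomial goodG rootsG2 (F := F) (lt12 (by norm_num : 11 < 12))
    rcases w12_fixing p hp hpar with rfl | rfl | rfl | rfl
    · exact fin 1 (one_mem _) (one_mem _) id (perms_diag goodG (one_mem _)) fun q hq => (refl_eq q hq).1
    · exact fin _ (hnK 7 (by simp)) hN7 _ (perms_ng goodG (lt12 (by norm_num)) one_ne_zero)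
        fun q hq => by rw [(refl_eq q hq).2.1, refl_refl_G2 7 (by norm_num) q hq]
    · exact fin _ (hnK 11 (by simp)) hN11 _ (perms_ng goodG (lt12 (by norm_num)) one_ne_zero)
        fun q hq => by rw [(refl_eq q hq).2.2.1, refl_refl_G2 11 (by norm_num) q hq]
    · refine fin _ (mul_mem (hnK 11 (by simp)) (hnK 7 (by simp))) (R.N.mul_mem hN11 hN7) _
        ((perms_ng goodG (lt12 (by norm_num)) one_ne_zero).mul goodG (perms_ng goodG (lt12 (by norm_num)) one_ne_zero)) ?_
      have h : ∀ q < 12, Chev.refl chevG2 11 (Chev.refl chevG2 7 (pf negP q)) = q := by decide +kernel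
      exact h
  exact mul_mem (mul_mem (mul_mem hvK (Subgroup.mem_sup_right hh)) hwK) huK

theorem centralizer_eq [Fintype F] (h20 : (2 : F) ≠ 0) :
    chevG2.group F ⊓ Subgroup.centralizer {zG F} = topK F :=
  le_antisymm (fun g hg => mem_top_of_commute h20 hg.1 (Subgroup.mem_centralizer_singleton_iff.1 hg.2)) topK_le

/-- The centraliser of an involution. -/
theorem centralizer_package [Fintype F] (hF : ringChar F ≠ 2) (t : ↥(chevG2.group F)) (ht : orderOf t = 2) :
    Nat.card (Subgroup.centralizer ({t} : Set ↥(chevG2.group F))) = Fintype.card F ^ 2 * (Fintype.card F ^ 2 - 1) ^ 2 ∧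
      ∃ L₁ L₂ : Subgroup ↥(chevG2.group F), Nonempty (L₁ ≃* SL(2, F)) ∧ Nonempty (L₂ ≃* SL(2, F)) ∧
        (∀ x ∈ L₁, ∀ y ∈ L₂, x * y = y * x) ∧ L₁ ⊓ L₂ = Subgroup.zpowers t ∧
        L₁ ⊔ L₂ ≤ Subgroup.centralizer ({t} : Set ↥(chevG2.group F)) ∧
        (L₁ ⊔ L₂).relIndex (Subgroup.centralizer ({t} : Set ↥(chevG2.group F))) = 2 := by
  have h20 : (2 : F) ≠ 0 := Ring.two_ne_zero hF
  have ht2 : (t : GL chevG2.Idx F) * t = 1 := by
    have := pow_orderOf_eq_one t
    rw [ht, pow_two] at this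
    exact congrArg Subtype.val this
  have ht1 : (t : GL chevG2.Idx F) ≠ 1 := fun e => by
    rw [show t = 1 from Subtype.ext e, orderOf_one] at ht
    exact absurd ht (by norm_num)
  obtain ⟨g, hg, hgt⟩ := conj_z hF t.2 ht2 ht1
  set c : GL chevG2.Idx F →* GL chevG2.Idx F := (MulAut.conj g⁻¹).toMonoidHom with hc
  have hci : Function.Injective c := (MulAut.conj g⁻¹).injective
  have hcz : c (zG F) = t := by rw [hc, ← hgt]; simp [mul_assoc]
  set ι := (chevG2.group F).subtype
  have hι : Function.Injective ι := Subtype.val_injective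
  set C := Subgroup.centralizer ({t} : Set ↥(chevG2.group F))
  have hKC : (topK F).map c = C.map ι := by
    rw [← centralizer_eq h20]
    ext x
    constructor
    · rintro ⟨y, ⟨hyG, hyz⟩, rfl⟩
      have hcyG : c y ∈ chevG2.group F := by
        show g⁻¹ * y * g⁻¹⁻¹ ∈ _
        exact mul_mem (mul_mem (inv_mem hg) hyG) (inv_mem (inv_mem hg))
      refine ⟨⟨c y, hcyG⟩, Subgroup.mem_centralizer_singleton_iff.2 (Subtype.ext ?_), rfl⟩
      show c y * (t : GL chevG2.Idx F) = t * c y
      rw [← hcz, ← map_mul, ← map_mul, Subgroup.mem_centralizer_singleton_iff.1 hyz]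
    · rintro ⟨y, hy, rfl⟩
      refine ⟨g * y * g⁻¹, ⟨(chevG2.group F).mul_mem ((chevG2.group F).mul_mem hg y.2) ((chevG2.group F).inv_mem hg), Subgroup.mem_centralizer_singleton_iff.2 ?_⟩, ?_⟩
      · apply hci
        rw [map_mul, map_mul (f := c) (zG F), hcz, show c (g * y * g⁻¹) = (y : GL chevG2.Idx F) by simp [hc, mul_assoc]]
        exact congrArg Subtype.val (Subgroup.mem_centralizer_singleton_iff.1 hy)
      · simp [hc, mul_assoc, ι]
  have hrange : ∀ f : SL(2, F) →* GL chevG2.Idx F, f.range ≤ topK F →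
      ((c.comp f).range.subgroupOf (chevG2.group F)).map ι = f.range.map c := by
    intro f hf
    rw [Subgroup.subgroupOf_map_subtype, inf_eq_left.2, MonoidHom.range_comp]
    rw [MonoidHom.range_comp]
    exact ((Subgroup.map_mono hf).trans hKC.le).trans (Subgroup.map_subtype_le _)
  have hA : (rA F).range ≤ topK F := le_sup_left.trans le_sup_left
  have hB : (rB F).range ≤ topK F := le_sup_right.trans le_sup_left
  set L₁ := (c.comp (rA F)).range.subgroupOf (chevG2.group F) with hL₁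
  set L₂ := (c.comp (rB F)).range.subgroupOf (chevG2.group F) with hL₂
  have hsup : (L₁ ⊔ L₂).map ι = (prodAB F).map c := by
    rw [Subgroup.map_sup, hrange _ hA, hrange _ hB, prodAB, Subgroup.map_sup]
  have hiso : ∀ f : SL(2, F) →* GL chevG2.Idx F, Function.Injective f → f.range ≤ topK F →
      Nonempty (↥((c.comp f).range.subgroupOf (chevG2.group F)) ≃* SL(2, F)) := by
    intro f hf hfK
    have hle : (c.comp f).range ≤ chevG2.group F := by
      rw [MonoidHom.range_comp]
      exact ((Subgroup.map_mono hfK).trans hKC.le).trans (Subgroup.map_subtype_le _)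
    exact ⟨(Subgroup.subgroupOfEquivOfLe hle).trans (MonoidHom.ofInjective (hci.comp hf : Function.Injective (c.comp f))).symm⟩
  refine ⟨?_, L₁, L₂, hiso _ (rA_injective h20) hA, hiso _ (rB_injective h20) hB, ?_, ?_, ?_, ?_⟩
  · rw [← Subgroup.card_map_of_injective (K := C) hι, ← hKC, Subgroup.card_map_of_injective hci]
    have h1 := Subgroup.card_mul_index ((prodAB F).subgroupOf (topK F))
    rw [← Subgroup.relIndex, relIndex_topK hF,
      Nat.card_congr (Subgroup.subgroupOfEquivOfLe (show prodAB F ≤ topK F from le_sup_left)).toEquiv] at h1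
    rw [← h1, mul_comm, card_prodAB h20, Nat.card_eq_fintype_card, mul_pow]
  · rintro x ⟨A, hA'⟩ y ⟨B, hB'⟩
    apply Subtype.ext
    show (x : GL chevG2.Idx F) * y = y * x
    rw [← show c (rA F A) = x from hA', ← show c (rB F B) = y from hB', ← map_mul, ← map_mul, (rAB_commute A B).eq]
  · apply Subgroup.map_injective hι
    rw [Subgroup.map_inf _ _ _ hι, hrange _ hA, hrange _ hB, ← Subgroup.map_inf _ _ _ hci, inter_AB h20,
      MonoidHom.map_zpowers, MonoidHom.map_zpowers, hcz]
    rfl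
  · rw [← Subgroup.map_le_map_iff_of_injective hι, hsup, ← hKC]
    exact Subgroup.map_mono le_sup_left
  · rw [← Subgroup.relIndex_map_map_of_injective _ _ hι, hsup, ← hKC, Subgroup.relIndex_map_map_of_injective _ _ hci,
      relIndex_topK hF]

end Cfsg.Agent.G2Invol
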